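import Mathlib
import Groth.Prelude
import Groth.Agent.Lib.Helper1.RegImmersion
import Groth.Agent.Lib.Helper1.RegSpread
import Groth.Agent.Lib.Helper8.Synt.Loc
import Groth.Agent.Lib.Helper8.Synt.FibGens

set_option autoImplicit false
set_option linter.style.haveILetI false

universe u

open CategoryTheory AlgebraicGeometry RingTheory.Sequence

namespace Groth.Agent.H8.RI

open Groth.Agent.H8.Synt

/-- abstract: `φ = e2⁻¹ ∘ ψ ∘ e1` with `e1, e2` ring isos; transport regular generators of `ker φ`
to `ker ψ`. -/
lemma exists_regular_gens_of_conj {X X' Y Y' : Type*} [CommRing X] [CommRing X'] [CommRing Y]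
    [CommRing Y'] (φ : X →+* Y) (ψ : X' →+* Y') (e1 : X ≃+* X') (e2 : Y ≃+* Y')
    (hcomm : ∀ x, e2 (φ x) = ψ (e1 x))
    (rs : List X) (hreg : IsRegular X rs) (hker : RingHom.ker φ = Ideal.ofList rs) :
    ∃ rs' : List X', IsRegular X' rs' ∧ Ideal.ofList rs' = RingHom.ker ψ := by
  refine ⟨rs.map e1, isRegular_map_ringEquiv e1 rs hreg, ?_⟩
  have h1 : Ideal.ofList (rs.map e1) = (Ideal.ofList rs).map (e1 : X →+* X') := by
    rw [Ideal.map_ofList]
    rfl
  rw [h1, ← hker]
  ext x
  rw [RingHom.mem_ker]
  constructor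
  · intro hx
    obtain ⟨y, hy, rfl⟩ := (Ideal.mem_map_iff_of_surjective (e1 : X →+* X') e1.surjective).mp hx
    rw [RingHom.mem_ker] at hy
    show ψ (e1 y) = 0
    rw [← hcomm, hy, map_zero]
  · intro hx
    obtain ⟨y, rfl⟩ := e1.surjective x
    refine Ideal.mem_map_of_mem _ ?_
    rw [RingHom.mem_ker]
    apply e2.injective
    rw [hcomm, hx, map_zero]

/-- regular immersion `Spec S → Spec R` for surjective `R → S`: the kernel localized at a prime is
generated by a regular sequence. -/
theorem exists_regular_gens_atPrime {R S : Type u} [CommRing R] [CommRing S] (f : R →+* S)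
    (hf : Function.Surjective f)
    (h : RegImm.IsRegularImmersion RegImm.Kind.regular (Spec.map (CommRingCat.ofHom f)))
    (q : PrimeSpectrum S) :
    ∃ rs : List (Localization.AtPrime (q.asIdeal.comap f)),
      IsRegular (Localization.AtPrime (q.asIdeal.comap f)) rs ∧
      Ideal.ofList rs = (RingHom.ker f).map (algebraMap R (Localization.AtPrime (q.asIdeal.comap f))) := by
  obtain ⟨rs, hreg, hker⟩ :=
    Groth.Agent.H1.RegImmersion.regAt_of_isRegularImmersionAt
      (Spec.map (CommRingCat.ofHom f)) q (h.2 q)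
  have hcomp := Scheme.localRingHom_comp_stalkIso (CommRingCat.ofHom f) q
  let e1 := (Spec.stalkIso (CommRingCat.of R) (q.comap (CommRingCat.ofHom f).hom)).commRingCatIsoToRingEquiv
  let e2 := (Spec.stalkIso (CommRingCat.of S) q).commRingCatIsoToRingEquiv
  have := exists_regular_gens_of_conj ((Spec.map (CommRingCat.ofHom f)).stalkMap q).hom
    (Localization.localRingHom (q.asIdeal.comap f) q.asIdeal f rfl) e1 e2 ?_ rs hreg hker
  · obtain ⟨rs', h1, h2⟩ := this
    refine ⟨rs', h1, ?_⟩
    rw [h2]
    exact ker_localRingHom f hf _ _ rfl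
  · intro x
    have h3 : (Spec.map (CommRingCat.ofHom f)).stalkMap q ≫ (Spec.stalkIso (CommRingCat.of S) q).hom =
        (Spec.stalkIso (CommRingCat.of R) (q.comap (CommRingCat.ofHom f).hom)).hom ≫
          (CommRingCat.ofHom <| Localization.localRingHom
            (PrimeSpectrum.comap (CommRingCat.ofHom f).hom q).asIdeal q.asIdeal
              (CommRingCat.ofHom f).hom rfl) := by
      exact ((Iso.comp_inv_eq (Spec.stalkIso (CommRingCat.of S) q)).mp
        ((Category.assoc _ _ _).trans hcomp)).symm
    have h4 := congrArg (fun g => g.hom x) h3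
    exact h4

end Groth.Agent.H8.RI

namespace Groth.Agent.H8.RI

/-- lift regular generators of `I S` (`S = R_p`) to elements of `I`, up to units. -/
theorem exists_lift_regular_atPrime {R : Type*} [CommRing R] (p : Ideal R) [p.IsPrime]
    (I : Ideal R) (rs : List (Localization.AtPrime p))
    (hreg : IsRegular (Localization.AtPrime p) rs)
    (hspan : Ideal.ofList rs = I.map (algebraMap R (Localization.AtPrime p))) :
    ∃ ys : List R, (∀ y ∈ ys, y ∈ I) ∧
      IsRegular (Localization.AtPrime p) (ys.map (algebraMap R (Localization.AtPrime p))) ∧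
      Ideal.ofList (ys.map (algebraMap R (Localization.AtPrime p))) =
        I.map (algebraMap R (Localization.AtPrime p)) := by
  classical
  set ρ := algebraMap R (Localization.AtPrime p) with hρ
  have hxJ : ∀ i : Fin rs.length, rs[i] ∈ I.map ρ := by
    intro i
    rw [← hspan]
    exact Ideal.subset_span (List.getElem_mem _)
  have hlift : ∀ i : Fin rs.length, ∃ q : I × p.primeCompl, rs[i] * ρ q.2 = ρ q.1 := by
    intro i
    exact (IsLocalization.mem_map_algebraMap_iff p.primeCompl (Localization.AtPrime p)).mp (hxJ i)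
  choose q hq using hlift
  let ys : List R := List.ofFn fun i => ((q i).1 : R)
  have hys : ∀ a ∈ ys, a ∈ I := by
    intro a ha
    rw [List.mem_ofFn] at ha
    obtain ⟨i, rfl⟩ := ha
    exact (q i).1.2
  have hmap : ys.map ρ = List.ofFn fun i => ρ (q i).1 := by
    rw [List.map_ofFn]; rfl
  have hlen : rs.length = (ys.map ρ).length := by
    rw [hmap, List.length_ofFn]
  have hunit : ∀ i (h : i < rs.length),
      ∃ c, IsUnit c ∧ (ys.map ρ)[i]'(hlen ▸ h) = rs[i] * c := by
    intro i h
    refine ⟨ρ (q ⟨i, h⟩).2, IsLocalization.map_units _ _, ?_⟩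
    simp only [hmap, List.getElem_ofFn]
    exact (hq ⟨i, h⟩).symm
  refine ⟨ys, hys, Groth.Agent.H1.Spread.isRegular_of_unit_mul _ _ hlen hunit hreg, ?_⟩
  rw [Groth.Agent.H1.Spread.ofList_eq_of_unit_mul _ _ hlen hunit, ← hspan]

/-- Noetherian `R`, surjective `f : R → S` with `Spec f` a regular immersion: near any prime the
kernel is generated by a regular sequence of elements of the kernel. -/
theorem exists_away_isRegular_of_regImm {R S : Type u} [CommRing R] [CommRing S]
    [IsNoetherianRing R] (f : R →+* S)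
    (hf : Function.Surjective f)
    (h : RegImm.IsRegularImmersion RegImm.Kind.regular (Spec.map (CommRingCat.ofHom f)))
    (q : PrimeSpectrum S) :
    ∃ g : R, f g ∉ q.asIdeal ∧ ∃ as : List R, (∀ a ∈ as, a ∈ RingHom.ker f) ∧
      IsRegular (Localization.Away g) (as.map (algebraMap R (Localization.Away g))) ∧
      Ideal.ofList (as.map (algebraMap R (Localization.Away g))) =
        (RingHom.ker f).map (algebraMap R (Localization.Away g)) := by
  obtain ⟨rs, hreg, hgen⟩ := exists_regular_gens_atPrime f hf h q
  obtain ⟨as, has, hreg', hgen'⟩ := exists_lift_regular_atPrime (q.asIdeal.comap f) (RingHom.ker f)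
    rs hreg hgen
  have hle : RingHom.ker f ≤ q.asIdeal.comap f := by
    intro x hx
    rw [Ideal.mem_comap, (RingHom.mem_ker).mp hx]
    exact Ideal.zero_mem _
  obtain ⟨g, hg, h1, h2⟩ := Groth.Agent.H1.Spread.exists_away_isRegular (q.asIdeal.comap f)
    (Localization.AtPrime (q.asIdeal.comap f)) (RingHom.ker f) hle as has
    hreg'.toIsWeaklyRegular hgen'
  exact ⟨g, hg, as, has, h1, h2⟩

end Groth.Agent.H8.RI
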