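import Mathlib
import Groth.Prelude
import Groth.Agent.Lib.Helper8.RGCI.Main18938
import Groth.Agent.Lib.Helper8.RI.A

set_option autoImplicit false
set_option linter.style.haveILetI false

universe u

open MvPolynomial RingTheory.Sequence

namespace Groth.Agent.H8.RI

open Groth.Agent.H1 Groth.Agent.H8.Synt Groth.Agent.H8.RGCI

theorem tail18938 {A : Type u} [CommRing A] {B : Type u} [CommRing B] [Algebra A B] {m : ℕ}
    (f : MvPolynomial (Fin m) A →ₐ[A] B) (hf : Function.Surjective f) (q : PrimeSpectrum B)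
    (t : MvPolynomial (Fin m) A) (ht : f t ∉ q.asIdeal) (ys : List (MvPolynomial (Fin m) A))
    (hys : ∀ y ∈ ys, y ∈ RingHom.ker f.toRingHom)
    (hwr : IsWeaklyRegular (Localization.Away t)
      (ys.map (algebraMap (MvPolynomial (Fin m) A) (Localization.Away t))))
    (hgen : (RingHom.ker f.toRingHom).map (algebraMap (MvPolynomial (Fin m) A) (Localization.Away t)) =
      Ideal.ofList (ys.map (algebraMap (MvPolynomial (Fin m) A) (Localization.Away t)))) :
    ∃ (d : ℕ) (P : Fin d → MvPolynomial (Fin (m + 1)) A),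
        RingTheory.Sequence.IsRegular (MvPolynomial (Fin (m + 1)) A) (List.ofFn P) ∧
        Nonempty (Localization.Away (f t) ≃ₐ[A]
          (MvPolynomial (Fin (m + 1)) A ⧸ Ideal.ofList (List.ofFn P))) := by
  set I := RingHom.ker f.toRingHom with hI
  have hr : ∀ i, f (ys.get i) = 0 := fun i => hys _ (List.get_mem ys i)
  have hloc : ∀ x, f x = 0 → ∃ k : ℕ, t ^ k * x ∈ Ideal.span (Set.range ys.get) := by
    intro x hx
    have hxI : x ∈ I := hx
    have h1 : algebraMap _ (Localization.Away t) x ∈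
        I.map (algebraMap _ (Localization.Away t)) := Ideal.mem_map_of_mem _ hxI
    rw [hgen, ← Ideal.map_ofList, IsLocalization.algebraMap_mem_map_algebraMap_iff
      (Submonoid.powers t)] at h1
    obtain ⟨_, ⟨k, rfl⟩, hk⟩ := h1
    exact ⟨k, by rwa [← ofList_eq_span_range_get]⟩
  have hker := ker_phi' f ys.get hf (f t) t rfl hr hloc
  refine ⟨ys.length + 1, rel' ys.get t, ?_, ?_⟩
  · -- regularity
    have hne : Ideal.ofList (List.ofFn (rel' ys.get t)) ≠ ⊤ := by
      rw [ofList_ofFn', ← hker]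
      intro htop
      have h1 : (1 : MvPolynomial (Fin (m + 1)) A) ∈ RingHom.ker (phi' f (f t)).toRingHom :=
        htop ▸ Submodule.mem_top
      rw [RingHom.mem_ker, map_one] at h1
      -- `B_{f t}` is nontrivial
      have h2 : algebraMap B (Localization.Away (f t)) 1 = 0 := by rw [map_one]; exact h1
      obtain ⟨⟨_, j, rfl⟩, hj⟩ := (IsLocalization.map_eq_zero_iff (Submonoid.powers (f t)) _ _).mp h2
      simp only [mul_one] at hj
      exact ht (Ideal.IsPrime.mem_of_pow_mem q.2 j (hj ▸ q.asIdeal.zero_mem))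
    refine ⟨?_, ?_⟩
    · rw [ofFn_rel']
      exact isWeaklyRegular_cons_P0 t ys hwr
    · rw [smul_eq_mul, Ideal.mul_top]
      exact hne.symm
  · -- the isomorphism
    have e1 : (MvPolynomial (Fin (m + 1)) A ⧸ RingHom.ker (phi' f (f t))) ≃ₐ[A]
        Localization.Away (f t) :=
      Ideal.quotientKerAlgEquivOfSurjective (phi'_surjective f hf (f t))
    have heq : RingHom.ker (phi' f (f t)) = Ideal.ofList (List.ofFn (rel' ys.get t)) := by
      rw [ofList_ofFn']
      exact hker
    exact ⟨e1.symm.trans (Ideal.quotientEquivAlgOfEq A heq)⟩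

theorem main18937 (A : Type u) [CommRing A] [IsNoetherianRing A] (n : ℕ)
    (I : Ideal (MvPolynomial (Fin n) A))
    (h : RegImm.IsRegularImmersion RegImm.Kind.regular
      (AlgebraicGeometry.Spec.map (CommRingCat.ofHom (Ideal.Quotient.mk I))))
    (q : PrimeSpectrum (MvPolynomial (Fin n) A ⧸ I)) :
    ∃ g : MvPolynomial (Fin n) A ⧸ I, g ∉ q.asIdeal ∧
      ∃ (d : ℕ) (P : Fin d → MvPolynomial (Fin (n + 1)) A),
        RingTheory.Sequence.IsRegular (MvPolynomial (Fin (n + 1)) A) (List.ofFn P) ∧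
        Nonempty (Localization.Away g ≃ₐ[A]
          (MvPolynomial (Fin (n + 1)) A ⧸ Ideal.ofList (List.ofFn P))) := by
  obtain ⟨t, ht, as, has, hreg, hgen⟩ := exists_away_isRegular_of_regImm (Ideal.Quotient.mk I)
    Ideal.Quotient.mk_surjective h q
  have hker : RingHom.ker (Ideal.Quotient.mkₐ A I).toRingHom = RingHom.ker (Ideal.Quotient.mk I) :=
    rfl
  obtain ⟨d, P, h1, h2⟩ := tail18938 (Ideal.Quotient.mkₐ A I) (Ideal.Quotient.mkₐ_surjective A I) q t
    ht as (by rw [hker]; exact has) hreg.toIsWeaklyRegular (by rw [hker]; exact hgen.symm)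
  exact ⟨Ideal.Quotient.mk I t, ht, d, P, h1, h2⟩

end Groth.Agent.H8.RI
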